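import Groth.Agent.FTorColim.Balance
import Mathlib.RingTheory.Filtration
import Mathlib.RingTheory.Noetherian.Basic
import Mathlib.RingTheory.Finiteness.Cardinality
import Mathlib.LinearAlgebra.TensorProduct.Quotient

/-!
# Pro-vanishing of `Tor_1(M, R/Iⁿ)`
-/

set_option autoImplicit false
universe u

open CategoryTheory CategoryTheory.Limits MonoidalCategory

namespace Groth.Agent.TorOneAR

variable {A : Type u} [CommRing A]

lemma homologyZeroIso_naturality (X : ModuleCat.{u} A) {N N' : ModuleCat.{u} A} (g : N ⟶ N') :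
    HomologicalComplex.homologyMap
        ((((tensoringLeft (ModuleCat.{u} A)).obj X).mapHomologicalComplex _).map ((FTorColim.resFunctor A).map g)) 0 ≫
      (FTorColim.homologyZeroIso (FTorColim.res A N') X).hom =
        (FTorColim.homologyZeroIso (FTorColim.res A N) X).hom ≫ X ◁ g := by
  refine FTorColim.hom_square _ _ _ _ (ChainComplex.isoHomologyι₀_inv_naturality _) ?_
  refine (cancel_epi (HomologicalComplex.pOpcycles _ _)).1 ?_
  simp only [FTorColim.opcyclesZeroIso, asIso_hom]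
  erw [HomologicalComplex.p_opcyclesMap_assoc]
  refine (congrArg (fun t => _ ≫ t)
    ((FTorColim.res A N').pOpcycles_comp_fromLeftDerivedZero' ((tensoringLeft (ModuleCat.{u} A)).obj X))).trans ?_
  refine Eq.trans ?_ ((FTorColim.res A N).pOpcycles_comp_fromLeftDerivedZero'_assoc
    ((tensoringLeft (ModuleCat.{u} A)).obj X) _).symm
  have h : ((FTorColim.resFunctor A).map g).f 0 ≫ (FTorColim.res A N').π.f 0 =
      (FTorColim.res A N).π.f 0 ≫ g := by
    change ((FTorColim.resFunctor A).map g).f 0 ≫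
        ((ChainComplex.toSingle₀Equiv _ _).symm ⟨FTorColim.aug A N', FTorColim.d_aug A N'⟩).f 0 =
      ((ChainComplex.toSingle₀Equiv _ _).symm ⟨FTorColim.aug A N, FTorColim.d_aug A N⟩).f 0 ≫ g
    rw [ChainComplex.toSingle₀Equiv_symm_apply_f_zero, ChainComplex.toSingle₀Equiv_symm_apply_f_zero]
    exact FTorColim.aug_naturality A g
  exact (MonoidalCategory.whiskerLeft_comp X _ _).symm.trans
    ((congrArg (X ◁ ·) h).trans (MonoidalCategory.whiskerLeft_comp X _ _))

/-- If kernels of `K ⊗ N → F ⊗ N` die in `K ⊗ N'`, then `Tor₁(M, N) → Tor₁(M, N')` vanishes. -/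
theorem tor_one_map_eq_zero (S : ShortComplex (ModuleCat.{u} A)) (hS : S.ShortExact) [Module.Flat A S.X₂]
    {N N' : ModuleCat.{u} A} (g : N ⟶ N')
    (h : ∀ z : TensorProduct A S.X₁ N, S.f.hom.rTensor N z = 0 → g.hom.lTensor S.X₁ z = 0) :
    ((CategoryTheory.Tor (ModuleCat.{u} A) 1).obj S.X₃).map g = 0 := by
  have hN := DRingPC.tensorResSC_shortExact hS (FTorColim.res A N)
  have hN' := DRingPC.tensorResSC_shortExact hS (FTorColim.res A N')
  haveI : Mono (hN'.δ 1 0 (by simp)) :=
    (hN'.homology_exact₃ 1 0 (by simp)).mono_g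
      ((DRingPC.isZero_tensorRes_of_flat S.X₂ (FTorColim.res A N') 0).eq_of_src _ _)
  suffices hT : (FTorColim.torFun A S.X₃ 1).map g = 0 by
    refine (cancel_mono ((FTorColim.torFunIso A S.X₃ 1).hom.app N')).1 ?_
    rw [(FTorColim.torFunIso A S.X₃ 1).hom.naturality, hT, comp_zero, zero_comp]
  refine (cancel_mono (hN'.δ 1 0 _)).1 ?_
  have hnat := HomologicalComplex.HomologySequence.δ_naturality (FTorColim.scMap S g) hN hN' 1 0 (by simp)
  refine (hnat.symm.trans ?_).trans zero_comp.symm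
  refine (cancel_mono (FTorColim.homologyZeroIso (FTorColim.res A N') S.X₁).hom).1 ?_
  refine ((Category.assoc _ _ _).trans (congrArg (hN.δ 1 0 (by simp) ≫ ·)
    (homologyZeroIso_naturality S.X₁ g))).trans ?_
  refine Eq.trans ?_ zero_comp.symm
  have hcomp := hN.δ_comp 1 0 (by simp)
  have hi : HomologicalComplex.homologyMap (DRingPC.tensorResSC (S := S) (FTorColim.res A N)).f 0 ≫
      (FTorColim.homologyZeroIso (FTorColim.res A N) S.X₂).hom =
        (FTorColim.homologyZeroIso (FTorColim.res A N) S.X₁).hom ≫ S.f ▷ N :=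
    FTorColim.hom_square _ _ _ _
      (ChainComplex.isoHomologyι₀_inv_naturality ((DRingPC.tensorResSC (S := S) (FTorColim.res A N)).f))
      (FTorColim.opcyclesZeroIso_naturality (FTorColim.res A N) S.f)
  have h0 : hN.δ 1 0 (by simp) ≫ (FTorColim.homologyZeroIso (FTorColim.res A N) S.X₁).hom ≫ S.f ▷ N = 0 := by
    erw [← hi]
    exact ((reassoc_of% hcomp) _).trans zero_comp
  exact ModuleCat.hom_ext (LinearMap.ext fun x => h _ (ConcreteCategory.congr_hom h0 x))

theorem exists_tor_one_map_eq_zero (R : Type u) [CommRing R] [IsNoetherianRing R] (I : Ideal R)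
    (M : Type u) [AddCommGroup M] [Module R M] [Module.Finite R M] (n : ℕ) :
    ∃ m : ℕ, n ≤ m ∧ ∀ h : I ^ m ≤ I ^ n,
      ((CategoryTheory.Tor (ModuleCat.{u} R) 1).obj (ModuleCat.of R M)).map
        (ModuleCat.ofHom (Submodule.factor h)) = 0 := by
  obtain ⟨l, π, hπ⟩ := Module.Finite.exists_fin' R M
  let K := LinearMap.ker π
  obtain ⟨c, hc⟩ := I.exists_pow_inf_eq_pow_smul K
  refine ⟨n + c, Nat.le_add_right n c, fun h => ?_⟩
  let S : ShortComplex (ModuleCat.{u} R) := ShortComplex.mk (X₁ := ModuleCat.of R K)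
    (X₂ := ModuleCat.of R (Fin l → R)) (X₃ := ModuleCat.of R M) (ModuleCat.ofHom K.subtype) (ModuleCat.ofHom π)
    (ModuleCat.hom_ext (LinearMap.ext fun x => LinearMap.mem_ker.1 x.2))
  haveI : Module.Flat R S.X₂ := inferInstanceAs (Module.Flat R (Fin l → R))
  have hS : S.ShortExact :=
    { exact := (ShortComplex.ShortExact.moduleCat_exact_iff_function_exact _).2 (LinearMap.exact_subtype_ker_map π)
      mono_f := (ModuleCat.mono_iff_injective _).2 Subtype.val_injective
      epi_g := (ModuleCat.epi_iff_surjective _).2 hπ }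
  refine tor_one_map_eq_zero S hS (ModuleCat.ofHom (Submodule.factor h)) ?_
  change ∀ z : TensorProduct R K (R ⧸ I ^ (n + c)), K.subtype.rTensor (R ⧸ I ^ (n + c)) z = 0 →
    (Submodule.factor h).lTensor K z = 0
  intro z hz
  obtain ⟨k, rfl⟩ : ∃ k : K, k ⊗ₜ[R] (1 : R ⧸ I ^ (n + c)) = z := by
    clear hz
    induction z using TensorProduct.induction_on with
    | zero => exact ⟨0, TensorProduct.zero_tmul _ _⟩
    | tmul k q =>
      obtain ⟨a, rfl⟩ := Ideal.Quotient.mk_surjective q
      refine ⟨a • k, ?_⟩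
      rw [TensorProduct.smul_tmul, Algebra.smul_def, mul_one]
      rfl
    | add y z hy hz' =>
      obtain ⟨k₁, h₁⟩ := hy
      obtain ⟨k₂, h₂⟩ := hz'
      exact ⟨k₁ + k₂, by rw [TensorProduct.add_tmul, h₁, h₂]⟩
  rw [LinearMap.rTensor_tmul] at hz
  have hmem : (k : Fin l → R) ∈ (I ^ (n + c) • ⊤ : Submodule R (Fin l → R)) :=
    (Submodule.Quotient.mk_eq_zero _).1
      (((congrArg (TensorProduct.tensorQuotEquivQuotSMul (Fin l → R) (I ^ (n + c))) hz).trans (map_zero _)) |>
        fun e => by simpa [TensorProduct.tensorQuotEquivQuotSMul] using e)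
  have hk : (k : Fin l → R) ∈ (I ^ n • K : Submodule R (Fin l → R)) := by
    have h1 : (k : Fin l → R) ∈ I ^ (n + c) • ⊤ ⊓ K := ⟨hmem, k.2⟩
    rw [hc (n + c) (Nat.le_add_left c n), Nat.add_sub_cancel] at h1
    exact Submodule.smul_mono le_rfl inf_le_right h1
  have hk' : k ∈ (I ^ n • ⊤ : Submodule R K) := by
    rw [← Submodule.comap_map_eq_of_injective K.injective_subtype (I ^ n • ⊤), Submodule.mem_comap,
      Submodule.map_smul'', Submodule.map_top, Submodule.range_subtype]
    exact hk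
  rw [LinearMap.lTensor_tmul]
  change k ⊗ₜ[R] (1 : R ⧸ I ^ n) = 0
  refine Submodule.smul_induction_on (p := fun k : K => k ⊗ₜ[R] (1 : R ⧸ I ^ n) = 0) hk' (fun a ha y _ => ?_)
    fun y z hy hz => by rw [TensorProduct.add_tmul, hy, hz, add_zero]
  rw [TensorProduct.smul_tmul, Algebra.smul_def, mul_one]
  rw [show algebraMap R (R ⧸ I ^ n) a = 0 from Ideal.Quotient.eq_zero_iff_mem.2 ha, TensorProduct.tmul_zero]

end Groth.Agent.TorOneAR
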